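import Cfsg.Agent.H370.DP.Def2
import Cfsg.Agent.H201.JointLin
import Cfsg.Agent.H72.AdjPSL
import Cfsg.Agent.H151.TwoPowElt
import Cfsg.Agent.H46.DP.Count
import Cfsg.Agent.H46.DP.Lin

/-!
# The number of primes for `PSL_m(q)`, `q` odd (for S3624, helper370's plan)
-/

set_option autoImplicit false
set_option linter.unusedSectionVars false

namespace Cfsg.Agent.H493.DP

open Cfsg Cfsg.Agent.H370.DP Cfsg.Agent.H72.AdjOrth

open Cfsg.Agent.H46.DP (count lin)

/-- the case of linear and unitary groups: cost = class, classes up to `M` -/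
theorem bd_of_classes {S : Type*} [Group S] [Finite S] {k c M N : ℕ} (hc : 1 ≤ c) (hck : c ≤ k) (hMN : M ≤ N) {E E0 : Finset ℕ}
    (hE0 : E0 ⊆ E) (hcard : E.card ≤ E0.card + 1 + c) (hP : Pr k c S E) {cls : ℕ → ℕ} (h1 : ∀ r ∈ E0, 1 ≤ cls r)
    (hle : ∀ r ∈ E0, r ∣ Nat.card S → cls r ≤ M)
    (hJ : ∀ T ⊆ E0, (∑ e ∈ T.image cls, e) ≤ M → Ind S T)
    (hL : ∀ A ⊆ E0, Ind S A → Set.InjOn cls (A : Set ℕ) → (∀ r ∈ A, M < c * cls r) → A.card < c) : Bd N k E.card := by
  classical
  let R := E0.filter fun r => r ∣ Nat.card S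
  have hR : R ⊆ E0 := Finset.filter_subset _ _
  have hRd : ∀ r ∈ R, r ∣ Nat.card S := fun r hr => (Finset.mem_filter.1 hr).2
  have key := count (I := Ind S) (fun T T' h hT => h.mono hT) hc hck (M := M) (D := M) (E := E0) (R := R) hR
    (cls := cls) (cost := fun e => e) (lin := fun e => e) ?_ ?_ ?_ ?_ ?_ ?_ ?_ ?_ ?_ ?_
  · unfold Bd
    have h2 : c ≤ k := hck
    rcases key with h | h
    · left; nlinarith
    · right; nlinarith
  · intro T hT hI r hr
    refine Finset.mem_filter.2 ⟨hT hr, ?_⟩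
    obtain ⟨g, hg⟩ := hI
    exact (hg r hr).trans (orderOf_dvd_natCard g)
  · intro T hT hI
    exact hP.1 T (hT.trans hE0) hI
  · intro T hT hk
    exact hP.2 T (hT.trans hE0) hk
  · intro T hT hs
    exact hJ T (hT.trans hR) hs
  · intro T hT e he
    refine hJ T (hT.trans hR) ?_
    rcases T.eq_empty_or_nonempty with rfl | ⟨r, hr⟩
    · simp
    · have h2 : T.image cls = {e} := by
        apply Finset.eq_singleton_iff_unique_mem.2
        refine ⟨Finset.mem_image.2 ⟨r, hr, he r hr⟩, fun x hx => ?_⟩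
        obtain ⟨s, hs, rfl⟩ := Finset.mem_image.1 hx
        exact he s hs
      rw [h2, Finset.sum_singleton, ← he r hr]
      exact hle r (hR (hT hr)) (hRd r (hT hr))
  · intro r hr
    exact (hle r (hR hr) (hRd r hr)).trans (Nat.le_succ _)
  · intro r hr
    exact h1 r (hR hr)
  · intro t
    have h2 : ((R.image cls).filter (fun e => e = t)).card ≤ 1 := by
      refine Finset.card_le_one.2 fun a ha b hb => ?_
      rw [(Finset.mem_filter.1 ha).2, (Finset.mem_filter.1 hb).2]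
    refine h2.trans ?_
    split_ifs <;> norm_num
  · intro A hA hI hinj hb
    exact hL A (hA.trans hR) hI hinj hb
  · have h2 : (R.image cls).filter (fun e => M < c * e ∧ c * e ≤ M) = ∅ := by
      refine Finset.filter_eq_empty_iff.2 fun e _ h => ?_
      omega
    rw [h2]
    simp

variable {F : Type*} [Field F] [Fintype F] {k c t : ℕ} {E : Finset ℕ}

theorem cov_psl (hF : Odd (Fintype.card F)) {m : ℕ} (hm : 2 ≤ m) (hc : 1 ≤ c) (hck : c ≤ k) (ht : 5 ≤ t)
    (h2 : ¬ ∃ g : PL F m, orderOf g = 2 ^ (t + 1)) (hE : ∀ r ∈ E, r.Prime ∧ 31 < r ∧ 2 ^ (t - 1) < r)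
    (hP : Pr k c (PL F m) E) : Bd (2 ^ (t - 1)) k E.card := by
  classical
  have hq : Nat.card F = Fintype.card F := Nat.card_eq_fintype_card
  have hq1 : 1 ≤ Nat.card F := Nat.card_pos
  have hmN : m ≤ 2 ^ (t - 1) := by
    by_contra h
    exact h2 (H151.TwoPowElt.exists_quot (F := F) (by rw [hq]; exact hF) (m := t) (l := m) (by omega) (by omega)
      (MonoidHom.id (Matrix.SpecialLinearGroup (Fin m) F)) Function.injective_id)
  obtain ⟨p, hpc⟩ := CharP.exists F
  obtain ⟨f, hp, hqp⟩ := FiniteField.card F p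
  let E0 := E.filter fun r => ¬ r ∣ Nat.card F ∧ ¬ r ∣ Nat.card F - 1
  let E1 := E.filter fun r => r ∣ Nat.card F - 1
  let E2 := E.filter fun r => r ∣ Nat.card F
  have hE1 : E1.card ≤ c := hP.1 E1 (Finset.filter_subset _ _) (H201.Joint.psl_joint_one hm fun r hr => by
    have hr' := Finset.mem_filter.1 hr
    have h3 := hE r hr'.1
    exact ⟨h3.1, hmN.trans_lt h3.2.2, hr'.2⟩)
  have hE2 : E2.card ≤ 1 := by
    refine Finset.card_le_one.2 fun a ha b hb => ?_
    have key : ∀ r ∈ E2, r = p := by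
      intro r hr
      have hr' := Finset.mem_filter.1 hr
      have h3 : r ∣ p ^ (f : ℕ) := by rw [← hqp, ← hq]; exact hr'.2
      exact (Nat.prime_dvd_prime_iff_eq (hE r hr'.1).1 hp).1 ((hE r hr'.1).1.dvd_of_dvd_pow h3)
    rw [key a ha, key b hb]
  have hcard : E.card ≤ E0.card + 1 + c := by
    have h3 : E ⊆ E0 ∪ E2 ∪ E1 := by
      intro r hr
      simp only [E0, E1, E2, Finset.mem_union, Finset.mem_filter]
      tauto
    have h4 := (Finset.card_le_card h3).trans ((Finset.card_union_le _ _).trans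
      (Nat.add_le_add_right (Finset.card_union_le _ _) _))
    omega
  have hfac : ∀ r ∈ E0, r.Prime ∧ r ≠ 2 ∧ ¬ r ∣ Nat.card F ∧ 2 ≤ ee (Nat.card F) r := by
    intro r hr
    obtain ⟨h3, h4, h5⟩ := Finset.mem_filter.1 hr
    obtain ⟨h6, h7, h8⟩ := hE r h3
    refine ⟨h6, by omega, h4, ?_⟩
    have h9 := ee_pos h6 h4
    have h10 : ee (Nat.card F) r ≠ 1 := fun h => h5 ((H72.AdjPSL.ee_eq_one_iff hq1).1 h)
    omega
  refine bd_of_classes (S := PL F m) hc hck hmN (Finset.filter_subset _ _) hcard hP (cls := ee (Nat.card F))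
    (fun r hr => (Nat.le_succ 1).trans (hfac r hr).2.2.2) ?_ ?_ ?_
  · intro r hr hd
    obtain ⟨h3, -, h4, -⟩ := hfac r hr
    rw [hq] at h4 ⊢
    exact H72.AdjPSL.ee_le h3 h4 hd
  · intro T hT hs
    exact H201.Joint.psl_joint (fun r hr => hfac r (hT hr)) hs
  · rintro A hA ⟨g, hg⟩ hinj hb
    obtain ⟨g, rfl⟩ := QuotientGroup.mk_surjective g
    let e : Matrix.SpecialLinearGroup (Fin m) F →* GL (Fin m) F := Matrix.SpecialLinearGroup.toGL
    have he : Function.Injective e := Matrix.SpecialLinearGroup.toGL_injective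
    refine lin (e g) hc (fun r hr => ⟨(hfac r (hA hr)).1, (hfac r (hA hr)).2.2.1, ?_⟩) hinj hb
    rw [orderOf_injective e he]
    exact (hg r hr).trans (orderOf_map_dvd (QuotientGroup.mk' _) g)

end Cfsg.Agent.H493.DP
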