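import Cfsg.Agent.H493.DP.CovPsl
import Cfsg.Agent.H421.OddCoc
import Cfsg.Agent.H71.Ulin

/-!
# The number of primes for `PSU_m(q)`, `q` odd (for S3624, helper370's plan)
-/

set_option autoImplicit false
set_option linter.unusedSectionVars false

namespace Cfsg.Agent.H493.DP

open Cfsg Cfsg.Agent.H370.DP

open Cfsg.Agent.H46.DP (count lin)
open Cfsg.Agent.H71.Ulin (ulin)

variable {F : Type*} [Field F] [Fintype F] {k c t : ℕ} {E : Finset ℕ}

open Cfsg.Agent.H72.AdjPSU in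
/-- a block of determinant one and order `d` prime to its size -/
theorem exists_order_of_block_eq {q n r : ℕ} (hF : Fintype.card F = q ^ 2) (hn : 3 ≤ n) (h1 : HasBlock F q n r)
    (hco : Nat.Coprime r n) : ∃ z : PSU n F q, orderOf z = r := by
  obtain ⟨A, hA, hAd, hA1, hA2⟩ := h1
  refine exists_order_of_index hF hn (Equiv.refl _) hA hAd (N := r) ?_ r dvd_rfl
  intro k c hk
  have h2 : c ^ r = 1 := pow_eq_one_of_scalar (by omega) hA1 hk
  have h3 : c ^ n = 1 := by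
    have h4 := congrArg Matrix.det hk
    rw [Matrix.det_pow, hAd, one_pow, Matrix.det_smul, Matrix.det_one, mul_one, Fintype.card_fin] at h4
    exact h4.symm
  have h5 : c = 1 := by
    have h6 := Nat.dvd_gcd (orderOf_dvd_of_pow_eq_one h2) (orderOf_dvd_of_pow_eq_one h3)
    rw [hco.gcd_eq_one] at h6
    exact orderOf_eq_one_iff.1 (Nat.dvd_one.1 h6)
  apply hA2
  rw [hk, h5, one_smul]

open Cfsg.Agent.H72.AdjPSU in
theorem exists_two_pow_psu {m q : ℕ} (hF : Fintype.card F = q ^ 2) (hq : Odd q) (ht : 5 ≤ t)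
    (h : 2 ^ (t - 1) < m) : ∃ g : PSU m F q, orderOf g = 2 ^ (t + 1) := by
  have h16 : 16 ≤ 2 ^ (t - 1) := by
    calc 16 = 2 ^ 4 := by norm_num
      _ ≤ 2 ^ (t - 1) := Nat.pow_le_pow_right (by norm_num) (by omega)
  obtain ⟨j, hj⟩ : ∃ j, 2 ^ (t - 1) = 2 * j := ⟨2 ^ (t - 2), by
    rw [← pow_succ', show t - 2 + 1 = t - 1 by omega]⟩
  have h3 := H421.OddCoc.two_pow_dvd' (m := t) hq (by omega)
  rw [hj] at h3
  have hb := H421.OddCoc.hasBlock_even_succ hF (j := j) (by omega) h3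
  rcases Nat.lt_or_ge (2 * j + 1) m with h4 | h4
  · exact exists_order_of_block_lt hF (by omega) hb h4 _ dvd_rfl
  · obtain rfl : m = 2 * j + 1 := by omega
    refine exists_order_of_block_eq hF (by omega) hb (Nat.Coprime.pow_left _ ?_)
    rw [Nat.coprime_two_left]
    exact ⟨j, rfl⟩

theorem cov_psu {m q : ℕ} (hF : Fintype.card F = q ^ 2) (hq : Odd q) (hm : 3 ≤ m) (hc : 1 ≤ c) (hck : c ≤ k) (ht : 5 ≤ t)
    (h2 : ¬ ∃ g : PSU m F q, orderOf g = 2 ^ (t + 1)) (hE : ∀ r ∈ E, r.Prime ∧ 31 < r ∧ 2 ^ (t - 1) < r)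
    (hP : Pr k c (PSU m F q) E) : Bd (2 ^ (t - 1)) k E.card := by
  classical
  have hmN : m ≤ 2 ^ (t - 1) := by
    by_contra h
    exact h2 (exists_two_pow_psu hF hq ht (by omega))
  obtain ⟨p, hpc⟩ := CharP.exists F
  obtain ⟨f, hp, hqp⟩ := FiniteField.card F p
  let E0 := E.filter fun r => ¬ r ∣ q ∧ ¬ r ∣ q + 1
  let E1 := E.filter fun r => r ∣ q + 1
  let E2 := E.filter fun r => r ∣ q
  have hE1 : E1.card ≤ c := hP.1 E1 (Finset.filter_subset _ _) (H201.Joint.psu_joint_one hF hm fun r hr => by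
    have hr' := Finset.mem_filter.1 hr
    have h3 := hE r hr'.1
    exact ⟨h3.1, hmN.trans_lt h3.2.2, hr'.2⟩)
  have hE2 : E2.card ≤ 1 := by
    refine Finset.card_le_one.2 fun a ha b hb => ?_
    have key : ∀ r ∈ E2, r = p := by
      intro r hr
      have hr' := Finset.mem_filter.1 hr
      have h3 : r ∣ p ^ (f : ℕ) := by rw [← hqp, hF, pow_two]; exact hr'.2.mul_left q
      exact (Nat.prime_dvd_prime_iff_eq (hE r hr'.1).1 hp).1 ((hE r hr'.1).1.dvd_of_dvd_pow h3)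
    rw [key a ha, key b hb]
  have hcard : E.card ≤ E0.card + 1 + c := by
    have h3 : E ⊆ E0 ∪ E2 ∪ E1 := by
      intro r hr
      simp only [E0, E1, E2, Finset.mem_union, Finset.mem_filter]
      tauto
    have h4 := (Finset.card_le_card h3).trans ((Finset.card_union_le _ _).trans
      (Nat.add_le_add_right (Finset.card_union_le _ _) _))
    omega
  have hfac : ∀ r ∈ E0, r.Prime ∧ r ≠ 2 ∧ ¬ r ∣ q ∧ 2 ≤ nu q r := by
    intro r hr
    obtain ⟨h3, h4, h5⟩ := Finset.mem_filter.1 hr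
    obtain ⟨h6, h7, h8⟩ := hE r h3
    refine ⟨h6, by omega, h4, ?_⟩
    have h9 : 1 ≤ nu q r := H72.AdjPSU.nu_pos h6 h4
    have h10 : nu q r ≠ 1 := fun h => h5 (by
      have h11 : -(q : ZMod r) = 1 := orderOf_eq_one_iff.1 h
      rw [← ZMod.natCast_eq_zero_iff]
      push_cast
      rw [← h11]; ring)
    omega
  refine bd_of_classes (S := PSU m F q) hc hck hmN (Finset.filter_subset _ _) hcard hP (cls := nu q)
    (fun r hr => (Nat.le_succ 1).trans (hfac r hr).2.2.2) ?_ ?_ ?_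
  · intro r hr hd
    obtain ⟨h3, -, h4, -⟩ := hfac r hr
    exact H72.AdjPSU.nu_le hF (by omega) h3 h4 hd
  · intro T hT hs
    exact H201.Joint.psu_joint hF hm (fun r hr => hfac r (hT hr)) hs
  · rintro A hA ⟨g, hg⟩ hinj hb
    obtain ⟨g, rfl⟩ := QuotientGroup.mk_surjective g
    refine ulin hF (by omega) g hc (fun r hr => ⟨(hfac r (hA hr)).1, (hfac r (hA hr)).2.1, (hfac r (hA hr)).2.2.1, ?_⟩)
      hinj hb
    exact (hg r hr).trans (orderOf_map_dvd (QuotientGroup.mk' _) g)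

end Cfsg.Agent.H493.DP
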